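import Cfsg.Agent.Lib.Geometry.FormTypes
import Cfsg.Agent.Lib.Classical.OrthStd
import Mathlib.FieldTheory.Finite.Extension
import Mathlib.RingTheory.Trace.Basic
import Mathlib.GroupTheory.OrderOfElement

/-!
Orders of isometries: combining orthogonal summands, tori.
-/

set_option autoImplicit false

namespace CfsgLib.CharsMore.SpectrumSp8

open Matrix CfsgLib.Geometry QuadraticMap

universe u

variable {F : Type u} [Field F]

/-- Some isometry of `Q` has order `n`. -/
def HasOrd {κ : Type} [Fintype κ] [DecidableEq κ] (Q : (κ → F) → F) (n : ℕ) : Prop :=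
  ∃ g : Cfsg.isometryGroup F Q, orderOf g = n

variable {κ κ₁ κ₂ : Type} [Fintype κ] [DecidableEq κ] [Fintype κ₁] [DecidableEq κ₁] [Fintype κ₂]
  [DecidableEq κ₂]

/-- Isometries given as endomorphisms. -/
theorem hasOrd_of_end (Q : (κ → F) → F) (f : Module.End F (κ → F)) {n : ℕ} (hn : 0 < n)
    (hord : orderOf f = n) (hQ : ∀ v, Q (f v) = Q v) : HasOrd Q n := by
  set M : Matrix κ κ F := LinearMap.toMatrixAlgEquiv' f with hM
  have hMo : orderOf M = n := by
    rw [hM, ← hord]
    exact orderOf_injective (LinearMap.toMatrixAlgEquiv' (R := F) (n := κ)).toAlgHom.toRingHom.toMonoidHom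
      (LinearMap.toMatrixAlgEquiv' (R := F) (n := κ)).injective f
  have hM1 : M ^ n = 1 := hMo ▸ pow_orderOf_eq_one M
  obtain ⟨g, hg⟩ : IsUnit M := IsUnit.of_pow_eq_one hM1 hn.ne'
  have hmem : g ∈ Cfsg.isometryGroup F Q := fun v _ => by
    show Q ((g : Matrix κ κ F) *ᵥ v) = Q v
    rw [hg, hM]
    rw [← Matrix.toLinAlgEquiv'_apply, Matrix.toLinAlgEquiv'_toMatrixAlgEquiv', hQ]
  refine ⟨⟨g, hmem⟩, ?_⟩
  rw [Subgroup.orderOf_mk, ← orderOf_units, hg, hMo]

/-- Two orthogonal summands. -/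
theorem hasOrd_sum (e : κ₁ ⊕ κ₂ ≃ κ) (Q₁ : (κ₁ → F) → F) (Q₂ : (κ₂ → F) → F) (Q : (κ → F) → F)
    (h : ∀ v, Q v = Q₁ (fun i => v (e (.inl i))) + Q₂ (fun i => v (e (.inr i)))) {x y : ℕ}
    (hx : HasOrd Q₁ x) (hy : HasOrd Q₂ y) : HasOrd Q (Nat.lcm x y) := by
  obtain ⟨g, rfl⟩ := hx
  obtain ⟨k, rfl⟩ := hy
  let φ : Cfsg.isometryGroup F Q₁ × Cfsg.isometryGroup F Q₂ →* Matrix κ κ F :=
    { toFun := fun p => Matrix.reindexAlgEquiv F F e
        (fromBlocks (p.1.1 : Matrix κ₁ κ₁ F) 0 0 (p.2.1 : Matrix κ₂ κ₂ F))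
      map_one' := by simp
      map_mul' := fun p r => by simp [← map_mul, fromBlocks_multiply] }
  have hφ : Function.Injective φ := fun p r he => by
    obtain ⟨h1, -, -, h2⟩ := fromBlocks_inj.1 ((Matrix.reindexAlgEquiv F F e).injective he)
    exact Prod.ext (Subtype.ext (Units.ext h1)) (Subtype.ext (Units.ext h2))
  have hmem : ∀ p, φ.toHomUnits p ∈ Cfsg.isometryGroup F Q := fun p v _ => by
    show Q (φ p *ᵥ v) = Q v
    have h1 : φ p *ᵥ v = Sum.elim ((p.1.1 : Matrix κ₁ κ₁ F) *ᵥ fun i => v (e (.inl i)))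
        ((p.2.1 : Matrix κ₂ κ₂ F) *ᵥ fun i => v (e (.inr i))) ∘ e.symm := by
      show (fromBlocks (p.1.1 : Matrix κ₁ κ₁ F) 0 0 (p.2.1 : Matrix κ₂ κ₂ F)).submatrix e.symm e.symm *ᵥ v = _
      rw [Matrix.submatrix_mulVec_equiv, Matrix.fromBlocks_mulVec]
      simp [Function.comp_def]
    rw [h, h v, h1]
    simp only [Function.comp_apply, Equiv.symm_apply_apply, Sum.elim_inl, Sum.elim_inr]
    exact congrArg₂ (· + ·) (p.1.2 (fun i => v (e (.inl i))) (fun i => v (e (.inl i))))
      (p.2.2 (fun i => v (e (.inr i))) (fun i => v (e (.inr i))))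
  refine ⟨φ.toHomUnits.codRestrict _ hmem (g, k), ?_⟩
  rw [orderOf_injective _ (fun p r he => hφ (congrArg (fun z => Units.val (Subtype.val z)) he)) (g, k),
    Prod.orderOf]

/-- Regrouping the indices of a plus form and a minus form. -/
def sumMinusEquiv (k m : ℕ) :
    (Fin k ⊕ Fin k) ⊕ ((Fin m ⊕ Fin m) ⊕ Fin 2) ≃ (Fin (k + m) ⊕ Fin (k + m)) ⊕ Fin 2 :=
  (Equiv.sumAssoc _ _ _).symm.trans <| Equiv.sumCongr
    ((Equiv.sumSumSumComm _ _ _ _).trans (Equiv.sumCongr finSumFinEquiv finSumFinEquiv)) (Equiv.refl _)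

theorem hasOrd_minus_add {a b : F} {k m x y : ℕ} (hx : HasOrd (Cfsg.quadFormPlus k F) x)
    (hy : HasOrd (Cfsg.quadFormMinus m F a b) y) :
    HasOrd (Cfsg.quadFormMinus (k + m) F a b) (Nat.lcm x y) := by
  refine hasOrd_sum (sumMinusEquiv k m) _ _ _ (fun v => ?_) hx hy
  simp [Cfsg.quadFormPlus, Cfsg.quadFormMinus, sumMinusEquiv, Fin.sum_univ_add, add_assoc]

theorem hasOrd_plus_add {k l x y : ℕ} (hx : HasOrd (Cfsg.quadFormPlus k F) x)
    (hy : HasOrd (Cfsg.quadFormPlus l F) y) : HasOrd (Cfsg.quadFormPlus (k + l) F) (Nat.lcm x y) := by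
  refine hasOrd_sum ((Equiv.sumSumSumComm _ _ _ _).trans (Equiv.sumCongr finSumFinEquiv finSumFinEquiv))
    _ _ _ (fun v => ?_) hx hy
  simp [Cfsg.quadFormPlus, Fin.sum_univ_add]

variable [Fintype F]

/-- The split torus. -/
theorem hasOrd_split (d : ℕ) (hd : 0 < d) :
    HasOrd (Cfsg.quadFormPlus d F) (Fintype.card F ^ d - 1) := by
  classical
  obtain ⟨p, hp⟩ := CharP.exists F
  haveI := Fact.mk (CharP.char_is_prime F p)
  haveI : NeZero d := ⟨hd.ne'⟩
  let K := FiniteField.Extension F p d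
  let β := (Module.finBasis F K).reindex (finCongr (FiniteField.finrank_extension F p d))
  obtain ⟨ω, hω⟩ := IsCyclic.exists_ofOrder_eq_natCard (α := Kˣ)
  rw [Nat.card_units, FiniteField.natCard_extension, Nat.card_eq_fintype_card] at hω
  let L := Algebra.leftMulMatrix β
  let φ : Kˣ →* Matrix (Fin d ⊕ Fin d) (Fin d ⊕ Fin d) F :=
    { toFun := fun u => fromBlocks (L (u : K)) 0 0 (L ((u⁻¹ : Kˣ) : K))ᵀ
      map_one' := by simp [fromBlocks_one]
      map_mul' := fun u v => by
        simp [fromBlocks_multiply, ← transpose_mul, ← map_mul, mul_comm] }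
  have hφ : Function.Injective φ := fun u v he =>
    Units.ext (Algebra.leftMulMatrix_injective β (fromBlocks_inj.1 he).1)
  have hmem : φ.toHomUnits ω ∈ Cfsg.isometryGroup F (Cfsg.quadFormPlus d F) := fun v _ => by
    show Cfsg.quadFormPlus d F (φ ω *ᵥ v) = Cfsg.quadFormPlus d F v
    simp only [φ, MonoidHom.coe_mk, OneHom.coe_mk, Cfsg.quadFormPlus, fromBlocks_mulVec,
      Sum.elim_inl, Sum.elim_inr, Matrix.zero_mulVec, add_zero, zero_add]
    change (L (ω : K) *ᵥ (v ∘ Sum.inl)) ⬝ᵥ ((L ((ω⁻¹ : Kˣ) : K))ᵀ *ᵥ (v ∘ Sum.inr)) =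
      (v ∘ Sum.inl) ⬝ᵥ (v ∘ Sum.inr)
    rw [Matrix.mulVec_transpose, dotProduct_comm, ← Matrix.dotProduct_mulVec, Matrix.mulVec_mulVec,
      ← map_mul, Units.inv_mul, map_one, Matrix.one_mulVec, dotProduct_comm]
  refine ⟨⟨φ.toHomUnits ω, hmem⟩, ?_⟩
  rw [Subgroup.orderOf_mk, ← orderOf_units]
  exact (orderOf_injective φ hφ ω).trans hω

/-- A set of units stable under a subgroup has size a multiple of the order of the subgroup. -/
theorem card_dvd_of_stable {G : Type*} [Group G] (U : Subgroup G) (S : Set G)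
    (hS : ∀ s ∈ S, ∀ u ∈ U, s * u ∈ S) : Nat.card U ∣ Nat.card S := by
  have hsat : ((↑) : G → G ⧸ U) ⁻¹' (((↑) : G → G ⧸ U) '' S) = S := by
    refine Set.Subset.antisymm ?_ (Set.subset_preimage_image _ _)
    rintro x ⟨s, hs, hsx⟩
    have := hS s hs _ (QuotientGroup.eq.1 hsx)
    rwa [mul_inv_cancel_left] at this
  rw [← hsat, Nat.card_congr (QuotientGroup.preimageMkEquivSubgroupProdSet U _), Nat.card_prod]
  exact dvd_mul_right _ _

theorem zeros_plus_absurd {q h Z : ℕ} (hq : Even q) (hq2 : 2 ≤ q)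
    (hZ : Z * q + q ^ (h + 1) = q ^ (h + 1 + 1) + q ^ (2 * (h + 1))) : ¬ q ^ (h + 1) + 1 ∣ Z - 1 := by
  have h1 : Z = q ^ (h + 1) + q ^ (2 * h + 1) - q ^ h := by
    have : (Z + q ^ h) * q = (q ^ (h + 1) + q ^ (2 * h + 1)) * q := by
      rw [add_mul, ← pow_succ, hZ]; ring
    have := Nat.eq_of_mul_eq_mul_right (by omega) this
    omega
  have hh : 1 ≤ q ^ h := Nat.one_le_pow _ _ (by omega)
  have hlt : q ^ h + 1 < q ^ (h + 1) + 1 := by
    have := Nat.pow_lt_pow_right (show 1 < q by omega) (show h < h + 1 by omega)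
    omega
  have hfac : Z - 1 = (q ^ (h + 1) - 1) * (q ^ h + 1) := by
    rw [h1, Nat.sub_mul, show q ^ (2 * h + 1) = q ^ (h + 1) * q ^ h by rw [← pow_add]; congr 1; omega]
    rw [mul_add, mul_one, one_mul]
    omega
  rw [hfac]
  intro hdvd
  have hodd : Odd (q ^ (h + 1) + 1) := (hq.pow_of_ne_zero (by omega)).add_one
  have hcop : Nat.Coprime (q ^ (h + 1) + 1) (q ^ (h + 1) - 1) := by
    refine Nat.coprime_of_dvd' fun k hk hk1 hk2 => ?_
    have := Nat.dvd_sub hk1 hk2
    rw [show q ^ (h + 1) + 1 - (q ^ (h + 1) - 1) = 2 by omega] at this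
    rw [(Nat.prime_dvd_prime_iff_eq hk Nat.prime_two).1 this] at hk1
    exact absurd (even_iff_two_dvd.2 hk1) (Nat.not_even_iff_odd.2 hodd)
  exact absurd (Nat.le_of_dvd (by omega) (hcop.dvd_of_dvd_mul_left hdvd)) (by omega)

variable [CharP F 2]

theorem even_card : Even (Fintype.card F) := by
  haveI := Fact.mk Nat.prime_two
  obtain ⟨n, -, hn⟩ := FiniteField.card F 2
  rw [hn]
  exact even_two.pow_of_ne_zero n.pos.ne'

/-- The anisotropic torus. -/
theorem hasOrd_twisted {a b : F}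
    (hab : ∀ z₁ z₂ : F, z₁ ^ 2 + a * z₁ * z₂ + b * z₂ ^ 2 = 0 → z₁ = 0 ∧ z₂ = 0) (m : ℕ) :
    HasOrd (Cfsg.quadFormMinus m F a b) (Fintype.card F ^ (m + 1) + 1) := by
  classical
  haveI := Fact.mk Nat.prime_two
  haveI : NeZero (2 * (m + 1)) := ⟨by omega⟩
  let L := FiniteField.Extension F 2 (2 * (m + 1))
  set q := Fintype.card F with hq
  have hL : Nat.card L = q ^ (2 * (m + 1)) := by
    rw [FiniteField.natCard_extension, Nat.card_eq_fintype_card]
  haveI := Fintype.ofFinite L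
  haveI : CharP L 2 := charP_of_injective_algebraMap (algebraMap F L).injective 2
  let σ : L ≃ₐ[F] L := (FiniteField.frobeniusAlgEquivOfAlgebraic F L) ^ (m + 1)
  have hσ : ∀ x : L, σ x = x ^ q ^ (m + 1) := fun x => by
    show ((FiniteField.frobeniusAlgEquivOfAlgebraic F L) ^ (m + 1)) x = _
    rw [AlgEquiv.coe_pow, FiniteField.coe_frobeniusAlgEquivOfAlgebraic, pow_iterate]
  have hσσ : ∀ x : L, σ (σ x) = x := fun x => by
    rw [hσ, hσ, ← pow_mul, ← pow_add, ← two_mul, ← hL, Nat.card_eq_fintype_card, FiniteField.pow_card]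
  obtain ⟨ω, hω⟩ := IsCyclic.exists_ofOrder_eq_natCard (α := Lˣ)
  rw [Nat.card_units, hL] at hω
  set Q₀ := q ^ (m + 1) with hQ₀
  have hQh : 1 < Q₀ := Nat.one_lt_pow (by omega) Fintype.one_lt_card
  have hfac : q ^ (2 * (m + 1)) - 1 = (Q₀ + 1) * (Q₀ - 1) := by
    rw [mul_comm 2, pow_mul]; simpa using Nat.sq_sub_sq Q₀ 1
  set w := ω ^ (Q₀ - 1) with hw
  have hword : orderOf w = Q₀ + 1 := by
    rw [hw, orderOf_pow_of_dvd (by omega) (by rw [hω, hfac]; exact dvd_mul_left _ _), hω, hfac,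
      Nat.mul_div_cancel _ (by omega)]
  have hwσ : ∀ u ∈ Subgroup.zpowers w, (u : L) * σ (u : L) = 1 := by
    intro u hu
    obtain ⟨i, rfl⟩ := (mem_powers_iff_mem_zpowers.2 hu : u ∈ Submonoid.powers w)
    rw [hσ, ← Units.val_pow_eq_pow_val, ← Units.val_mul, ← pow_succ', ← pow_mul, mul_comm i, pow_mul,
      orderOf_dvd_iff_pow_eq_one.1 (dvd_of_eq hword), one_pow, Units.val_one]
  obtain ⟨θ₀, hθ₀⟩ : ∃ θ : L, θ + σ θ ≠ 0 := by
    refine ⟨(ω : L), fun h0 => ?_⟩
    rw [CharTwo.add_eq_zero, hσ, ← Units.val_pow_eq_pow_val, Units.val_inj] at h0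
    have h1 : ω ^ (Q₀ - 1) = 1 := by
      refine mul_right_cancel (b := ω) ?_
      rw [← pow_succ, Nat.sub_add_cancel hQh.le, one_mul, ← h0]
    rw [← hw] at h1
    rw [h1, orderOf_one] at hword
    omega
  set θ := θ₀ / (θ₀ + σ θ₀)
  have hθ : θ + σ θ = 1 := by
    show θ₀ / _ + σ (θ₀ / _) = 1
    rw [map_div₀, map_add, hσσ, add_comm (σ θ₀) θ₀, ← add_div, div_self hθ₀]
  let B : LinearMap.BilinForm F L := LinearMap.mk₂ F (fun x y => Algebra.trace F L (θ * (x * σ y)))
    (fun x x' y => by rw [← map_add]; congr 1; ring)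
    (fun c x y => by rw [smul_mul_assoc, mul_smul_comm, map_smul])
    (fun x y y' => by rw [← map_add, map_add σ]; congr 1; ring)
    (fun c x y => by rw [map_smul, mul_smul_comm, mul_smul_comm, map_smul])
  have hB : ∀ x y, B x y + B y x = Algebra.trace F L (x * σ y) := fun x y => by
    show Algebra.trace F L (θ * (x * σ y)) + Algebra.trace F L (θ * (y * σ x)) = _
    rw [← Algebra.trace_eq_of_algEquiv σ (θ * (y * σ x)), map_mul σ, map_mul σ, hσσ, ← map_add,
      mul_comm (σ y) x, ← add_mul, hθ, one_mul]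
  let E : (Fin (2 * (m + 1)) → F) ≃ₗ[F] L :=
    ((Module.finBasis F L).reindex (finCongr (FiniteField.finrank_extension F 2 (2 * (m + 1))))).equivFun.symm
  let Q : QuadraticForm F (Fin (2 * (m + 1)) → F) := (LinearMap.BilinMap.toQuadraticMap B).comp E.toLinearMap
  have hnd : (polarBilin Q).Nondegenerate := by
    refine CfsgLib.Classical.polar_nondeg_of_forall fun v hv => E.map_eq_zero_iff.1 ?_
    refine (traceForm_nondegenerate F L).1 _ fun z => ?_
    have := hv (E.symm (σ z))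
    simp only [Q, polar, QuadraticMap.comp_apply, LinearEquiv.coe_coe, map_add, LinearEquiv.apply_symm_apply,
      LinearMap.BilinMap.toQuadraticMap_apply, LinearMap.add_apply] at this
    rw [Algebra.traceForm_apply, ← hσσ z, ← hB]
    linear_combination this
  have hinv : ∀ u ∈ Subgroup.zpowers w, ∀ x, B ((u : L) * x) ((u : L) * x) = B x x := fun u hu x => by
    show Algebra.trace F L (θ * ((u : L) * x * σ ((u : L) * x))) = Algebra.trace F L (θ * (x * σ x))
    rw [map_mul σ, show (u : L) * x * (σ (u : L) * σ x) = (u : L) * σ (u : L) * (x * σ x) by ring,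
      hwσ _ hu, one_mul]
  -- the form is not of plus type
  have hnotplus : ¬ IsSimTo (⇑Q) (Cfsg.quadFormPlus (m + 1) F) := by
    rintro ⟨E', c, hc, hE'⟩
    set Z := Nat.card {v // Cfsg.quadFormPlus (m + 1) F v = 0} with hZdef
    have hcount := CfsgLib.Classical.card_zeros_plus (F := F) (m + 1)
    rw [← hZdef, Nat.card_eq_fintype_card (α := F), ← hq] at hcount
    refine zeros_plus_absurd even_card Fintype.one_lt_card hcount ?_
    rw [← hQ₀, ← hword, ← Nat.card_zpowers]
    let S : Set Lˣ := {u | B (u : L) (u : L) = 0}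
    have hS : Z - 1 = Nat.card S := by
      have e1 : {v // Cfsg.quadFormPlus (m + 1) F v = 0} ≃ {x : L // B x x = 0} :=
        (E'.trans E).toEquiv.subtypeEquiv fun v => by
          have := hE' v
          simp only [Q, QuadraticMap.comp_apply, LinearEquiv.coe_coe,
            LinearMap.BilinMap.toQuadraticMap_apply] at this
          simp [this, hc]
      have e2 : {x : L // B x x = 0} ≃ Option S :=
        { toFun := fun x => if hx : x.1 = 0 then none else some ⟨Units.mk0 x.1 hx, x.2⟩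
          invFun := fun o => o.elim ⟨0, by simp⟩ fun u => ⟨(u.1 : L), u.2⟩
          left_inv := fun x => by
            by_cases hx : x.1 = 0
            · simp only [dif_pos hx, Option.elim_none]; exact Subtype.ext hx.symm
            · simp only [dif_neg hx, Option.elim_some]; rfl
          right_inv := fun o => by
            cases o with
            | none => simp
            | some u => simp [Units.ne_zero] }
      rw [hZdef, Nat.card_congr (e1.trans e2), Finite.card_option, Nat.add_sub_cancel]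
    rw [hS]
    refine card_dvd_of_stable _ S fun s hs u hu => ?_
    show B _ _ = 0
    rw [Units.val_mul, mul_comm (s : L), hinv u hu]
    exact hs
  -- transfer to the given form
  rcases isSimTo_even Q hnd (m := m) (by simp) with hs | ⟨a', b', hab', hs⟩
  · exact absurd hs hnotplus
  obtain ⟨E', c, hc, hE'⟩ := hs.trans (isSimTo_minus m hab' hab)
  let T := E'.trans E
  let φ : L →* Module.End F ((Fin m ⊕ Fin m) ⊕ Fin 2 → F) :=
    { toFun := fun x => T.symm.toLinearMap ∘ₗ LinearMap.mulLeft F x ∘ₗ T.toLinearMap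
      map_one' := LinearMap.ext fun v => by simp
      map_mul' := fun x y => LinearMap.ext fun v => by simp [mul_assoc] }
  have hφ : Function.Injective φ := fun x y he => by
    have := congrArg T (LinearMap.congr_fun he (T.symm 1))
    simpa [φ] using this
  refine hasOrd_of_end _ (φ (w : L)) (by omega) ?_ fun v => ?_
  · rw [orderOf_injective φ hφ, orderOf_units, hword]
  · have h1 := hE' (φ (w : L) v)
    have h2 := hE' v
    simp only [Q, QuadraticMap.comp_apply, LinearEquiv.coe_coe,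
      LinearMap.BilinMap.toQuadraticMap_apply] at h1 h2
    have h3 : E (E' (φ (w : L) v)) = (w : L) * E (E' v) := T.apply_symm_apply _
    rw [h3, hinv w (Subgroup.mem_zpowers w), h2] at h1
    exact (mul_left_cancel₀ hc h1).symm

end CfsgLib.CharsMore.SpectrumSp8
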