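import Cfsg.Agent.Lib.CharsMore.SpectrumSp8.Shape

/-!
The orders of the elements of `Sp 8 q`, `q` even.
-/

set_option autoImplicit false

namespace CfsgLib.CharsMore.SpectrumSp8

open Matrix

universe u

/-- The maximal element orders of `Sp 8 q`, `q` even, up to divisibility. -/
def maxOrders (q : ℕ) : List ℕ :=
  [q ^ 4 + 1, q ^ 4 - 1, (q ^ 3 - 1) * (q + 1), (q ^ 3 + 1) * (q - 1), 2 * (q ^ 3 + 1), 2 * (q ^ 3 - 1),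
    2 * ((q ^ 2 + 1) * (q + 1)), 2 * ((q ^ 2 + 1) * (q - 1)), 4 * (q ^ 2 + 1), 4 * (q ^ 2 - 1),
    8 * (q + 1), 8 * (q - 1)]

/-- A torus exponent serves the factor degrees in the sets `P` and `M`. -/
def Covers (q N : ℕ) (P M : Finset ℕ) : Prop :=
  (∀ a ∈ P, q ^ a + 1 ∣ N) ∧ ∀ b ∈ M, q ^ b - 1 ∣ N

theorem Covers.lcm_dvd {q N : ℕ} {P M T₁ T₂ : Finset ℕ} (h : Covers q N P M) (h₁ : T₁ ⊆ P) (h₂ : T₂ ⊆ M) :
    Nat.lcm (T₁.lcm fun a => q ^ a + 1) (T₂.lcm fun b => q ^ b - 1) ∣ N :=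
  Nat.lcm_dvd (Finset.lcm_dvd fun a ha => h.1 a (h₁ ha)) (Finset.lcm_dvd fun b hb => h.2 b (h₂ hb))

section arith

variable (q : ℕ)

theorem sq_sub_eq : q ^ 2 - 1 = (q + 1) * (q - 1) := by simpa using Nat.sq_sub_sq q 1

theorem four_sub_eq : q ^ 4 - 1 = (q ^ 2 + 1) * (q ^ 2 - 1) := by
  rw [show q ^ 4 = (q ^ 2) ^ 2 by ring, sq_sub_eq]

theorem covers_all : Covers q (q ^ 4 - 1) {1, 2} {1, 2, 4} := by
  have hp : q + 1 ∣ q ^ 4 - 1 := by rw [four_sub_eq, sq_sub_eq]; exact dvd_mul_of_dvd_right (dvd_mul_right _ _) _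
  have hm : q - 1 ∣ q ^ 4 - 1 := by simpa using Nat.sub_dvd_pow_sub_pow q 1 4
  have hp2 : q ^ 2 + 1 ∣ q ^ 4 - 1 := by rw [four_sub_eq]; exact dvd_mul_right _ _
  have hm2 : q ^ 2 - 1 ∣ q ^ 4 - 1 := by rw [four_sub_eq]; exact dvd_mul_left _ _
  simp [Covers, hp, hm, hp2, hm2]

theorem covers_C : Covers q ((q ^ 3 - 1) * (q + 1)) {1} {1, 2, 3} := by
  have hm : q - 1 ∣ q ^ 3 - 1 := by simpa using Nat.sub_dvd_pow_sub_pow q 1 3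
  have hm2 : q ^ 2 - 1 ∣ (q ^ 3 - 1) * (q + 1) := by
    rw [sq_sub_eq, mul_comm (q + 1)]; exact mul_dvd_mul_right hm _
  simp [Covers, dvd_mul_of_dvd_left hm, hm2]

theorem covers_D : Covers q ((q ^ 3 + 1) * (q - 1)) {1, 3} {1} := by
  have hp : q + 1 ∣ q ^ 3 + 1 := by simpa using (show Odd 3 by decide).nat_add_dvd_pow_add_pow q 1
  simp [Covers, dvd_mul_of_dvd_left hp]

theorem covers_sq : Covers q (q ^ 2 - 1) {1} {1, 2} := by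
  simp [Covers, sq_sub_eq]

theorem covers_three_add : Covers q (q ^ 3 + 1) {1, 3} ∅ := by
  have hp : q + 1 ∣ q ^ 3 + 1 := by simpa using (show Odd 3 by decide).nat_add_dvd_pow_add_pow q 1
  simp [Covers, hp]

theorem covers_three_sub : Covers q (q ^ 3 - 1) ∅ {1, 3} := by
  have hm : q - 1 ∣ q ^ 3 - 1 := by simpa using Nat.sub_dvd_pow_sub_pow q 1 3
  simp [Covers, hm]

end arith

section cases

theorem weight_le_four : ∀ T₁ ∈ (Finset.Icc 1 4).powerset, ∀ T₂ ∈ (Finset.Icc 1 4).powerset,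
    ∑ a ∈ T₁, a + ∑ b ∈ T₂, b ≤ 4 →
      (T₁ ⊆ {4} ∧ T₂ = ∅) ∨ (T₁ ⊆ {1, 2} ∧ T₂ ⊆ {1, 2, 4}) ∨ (T₁ ⊆ {1} ∧ T₂ ⊆ {1, 2, 3}) ∨
      (T₁ ⊆ {1, 3} ∧ T₂ ⊆ {1}) := by
  decide

theorem weight_le_three : ∀ T₁ ∈ (Finset.Icc 1 4).powerset, ∀ T₂ ∈ (Finset.Icc 1 4).powerset,
    ∑ a ∈ T₁, a + ∑ b ∈ T₂, b ≤ 3 →
      (T₁ ⊆ {1, 3} ∧ T₂ = ∅) ∨ (T₁ = ∅ ∧ T₂ ⊆ {1, 3}) ∨ (T₁ ⊆ {1} ∧ T₂ ⊆ {1, 2}) ∨
      (T₁ ⊆ {1, 2} ∧ T₂ = ∅) ∨ (T₁ ⊆ {2} ∧ T₂ ⊆ {1}) := by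
  decide

theorem weight_le_two : ∀ T₁ ∈ (Finset.Icc 1 4).powerset, ∀ T₂ ∈ (Finset.Icc 1 4).powerset,
    ∑ a ∈ T₁, a + ∑ b ∈ T₂, b ≤ 2 →
      (T₁ ⊆ {2} ∧ T₂ = ∅) ∨ (T₁ ⊆ {1} ∧ T₂ ⊆ {1, 2}) := by
  decide

theorem weight_le_one : ∀ T₁ ∈ (Finset.Icc 1 4).powerset, ∀ T₂ ∈ (Finset.Icc 1 4).powerset,
    ∑ a ∈ T₁, a + ∑ b ∈ T₂, b ≤ 1 →
      (T₁ ⊆ {1} ∧ T₂ = ∅) ∨ (T₁ = ∅ ∧ T₂ ⊆ {1}) := by
  decide

end cases

variable {F : Type u} [Field F] [Fintype F] [CharP F 2]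

theorem exists_maxOrder {ι : Type*} [Fintype ι] [DecidableEq ι] {A Jm : Matrix ι ι F} (hJ : IsUnit Jm)
    (hA : Aᵀ * Jm * A = Jm) (hN : Fintype.card ι ≤ 2 * 4) :
    ∃ N ∈ maxOrders (Fintype.card F), A ^ N = 1 := by
  obtain ⟨T₁, T₂, s, M, hp₁, hp₂, hsum, hs, hs0, hpow⟩ := exists_shape_two hJ hA hN
  set q := Fintype.card F
  suffices h : ∃ N ∈ maxOrders q,
      Nat.lcm (T₁.lcm fun a => q ^ a + 1) (T₂.lcm fun b => q ^ b - 1) * 2 ^ s ∣ N by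
    obtain ⟨N, hN, c, rfl⟩ := h
    exact ⟨_, hN, by rw [pow_mul, hpow, one_pow]⟩
  -- the possible degree sets
  have hsub : ∀ T : Finset ℕ, (∀ a ∈ T, 0 < a) → ∑ a ∈ T, a ≤ 4 → T ∈ (Finset.Icc 1 4).powerset := by
    intro T hT hT4
    refine Finset.mem_powerset.2 fun a ha => Finset.mem_Icc.2 ⟨hT a ha, ?_⟩
    exact (Finset.single_le_sum (f := fun a => a) (fun _ _ => Nat.zero_le _) ha).trans hT4
  have h₁ := hsub T₁ hp₁ (by omega)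
  have h₂ := hsub T₂ hp₂ (by omega)
  have k4 := weight_le_four T₁ h₁ T₂ h₂
  have k3 := weight_le_three T₁ h₁ T₂ h₂
  have k2 := weight_le_two T₁ h₁ T₂ h₂
  have k1 := weight_le_one T₁ h₁ T₂ h₂
  have cle : ∀ {N : ℕ} {P Q : Finset ℕ} {e : ℕ}, Covers q N P Q → s ≤ e → T₁ ⊆ P → T₂ ⊆ Q →
      Nat.lcm (T₁.lcm fun a => q ^ a + 1) (T₂.lcm fun b => q ^ b - 1) * 2 ^ s ∣ 2 ^ e * N := by
    intro N P Q e hC he hP hQ
    rw [mul_comm (2 ^ e)]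
    exact mul_dvd_mul (hC.lcm_dvd hP hQ) (pow_dvd_pow 2 he)
  have hM : M ≤ 4 := by omega
  have hs3 : s = 0 ∨ (s ≤ 1 ∧ 1 ≤ M) ∨ (s ≤ 2 ∧ 2 ≤ M) ∨ (s ≤ 3 ∧ 3 ≤ M) := by
    rcases Nat.eq_zero_or_pos s with h | h
    · exact Or.inl h
    have h' := hs h
    have hs4 : s ≤ 4 := by
      by_contra hc
      have : 2 ^ 4 ≤ 2 ^ (s - 1) := Nat.pow_le_pow_right two_pos (by omega)
      omega
    interval_cases s <;> simp at h' ⊢ <;> omega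
  rcases hs3 with h | ⟨h, hm⟩ | ⟨h, hm⟩ | ⟨h, hm⟩
  · rcases k4 (by omega) with ⟨a, b⟩ | ⟨a, b⟩ | ⟨a, b⟩ | ⟨a, b⟩
    · exact ⟨q ^ 4 + 1, by simp [maxOrders],
        (cle (e := 0) (N := q ^ 4 + 1) (P := {4}) (Q := ∅) (by simp [Covers]) h.le a b.le).trans (by simp)⟩
    · exact ⟨q ^ 4 - 1, by simp [maxOrders], (cle (e := 0) (covers_all q) h.le a b).trans (by simp)⟩
    · exact ⟨(q ^ 3 - 1) * (q + 1), by simp [maxOrders], (cle (e := 0) (covers_C q) h.le a b).trans (by simp)⟩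
    · exact ⟨(q ^ 3 + 1) * (q - 1), by simp [maxOrders], (cle (e := 0) (covers_D q) h.le a b).trans (by simp)⟩
  · rcases k3 (by omega) with ⟨a, b⟩ | ⟨a, b⟩ | ⟨a, b⟩ | ⟨a, b⟩ | ⟨a, b⟩
    · exact ⟨2 * (q ^ 3 + 1), by simp [maxOrders], (cle (e := 1) (covers_three_add q) h a b.le).trans (by simp)⟩
    · exact ⟨2 * (q ^ 3 - 1), by simp [maxOrders], (cle (e := 1) (covers_three_sub q) h a.le b).trans (by simp)⟩
    · exact ⟨4 * (q ^ 2 - 1), by simp [maxOrders],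
        (cle (e := 2) (covers_sq q) (by omega) a b).trans (by norm_num)⟩
    · exact ⟨2 * ((q ^ 2 + 1) * (q + 1)), by simp [maxOrders],
        (cle (e := 1) (N := (q ^ 2 + 1) * (q + 1)) (P := {1, 2}) (Q := ∅) (by simp [Covers]) h a b.le).trans (by simp)⟩
    · exact ⟨2 * ((q ^ 2 + 1) * (q - 1)), by simp [maxOrders],
        (cle (e := 1) (N := (q ^ 2 + 1) * (q - 1)) (P := {2}) (Q := {1}) (by simp [Covers]) h a b).trans (by simp)⟩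
  · rcases k2 (by omega) with ⟨a, b⟩ | ⟨a, b⟩
    · exact ⟨4 * (q ^ 2 + 1), by simp [maxOrders],
        (cle (e := 2) (N := q ^ 2 + 1) (P := {2}) (Q := ∅) (by simp [Covers]) h a b.le).trans (by norm_num)⟩
    · exact ⟨4 * (q ^ 2 - 1), by simp [maxOrders], (cle (e := 2) (covers_sq q) h a b).trans (by norm_num)⟩
  · rcases k1 (by omega) with ⟨a, b⟩ | ⟨a, b⟩
    · exact ⟨8 * (q + 1), by simp [maxOrders],
        (cle (e := 3) (N := q + 1) (P := {1}) (Q := ∅) (by simp [Covers]) h a b.le).trans (by norm_num)⟩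
    · exact ⟨8 * (q - 1), by simp [maxOrders],
        (cle (e := 3) (N := q - 1) (P := ∅) (Q := {1}) (by simp [Covers]) h a.le b).trans (by norm_num)⟩

theorem orderOf_dvd_maxOrder (g : Matrix.symplecticGroup (Fin 4) F) :
    ∃ N ∈ maxOrders (Fintype.card F), orderOf g ∣ N := by
  obtain ⟨N, hN, h⟩ := exists_maxOrder ((Matrix.isUnit_iff_isUnit_det _).2 (Matrix.isUnit_det_J _ _))
    (SymplecticGroup.mem_iff'.1 g.2) (by simp)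
  exact ⟨N, hN, orderOf_dvd_of_pow_eq_one (Subtype.ext (by simpa using h))⟩

end CfsgLib.CharsMore.SpectrumSp8
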