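import Cfsg.Agent.Lib.CharsMore.SpectrumSp8.Small
import Cfsg.Agent.Lib.CharsMore.SpectrumSp8.Upper
import Cfsg.Agent.Lib.KnownB.RestrictScalars
import Cfsg.Agent.Lib.Classical.SympSimple

/-!
`Sp 8 q` and `GO⁻ 8 q`, `q` even, have the same element orders.
-/

set_option autoImplicit false

namespace CfsgLib.CharsMore.SpectrumSp8

open Matrix QuadraticMap

universe u

variable {F : Type u} [Field F] [Fintype F] [CharP F 2]

theorem lcm_of_coprime {x y n : ℕ} (h : Nat.Coprime x y) (hn : x * y = n) : Nat.lcm x y = n := by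
  rw [h.lcm_eq_mul, hn]

theorem hasOrd_maxOrder {a b : F}
    (hab : ∀ z₁ z₂ : F, z₁ ^ 2 + a * z₁ * z₂ + b * z₂ ^ 2 = 0 → z₁ = 0 ∧ z₂ = 0) (ha : a ≠ 0)
    {N : ℕ} (hN : N ∈ maxOrders (Fintype.card F)) : HasOrd (Cfsg.quadFormMinus 3 F a b) N := by
  set q := Fintype.card F with hq
  have hq2 : 2 ≤ q := Fintype.one_lt_card
  have he : Even q := even_card
  have hs : ∀ d, 0 < d → Odd (q ^ d + 1) := fun d hd => (he.pow_of_ne_zero hd.ne').add_one
  have hd : ∀ d, 0 < d → Odd (q ^ d - 1) := fun d hd =>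
    Nat.Even.sub_odd (Nat.one_le_pow _ _ (by omega)) (he.pow_of_ne_zero hd.ne') odd_one
  have h1 : 1 ≤ q := by omega
  have hs1 : Odd (q + 1) := he.add_one
  have hd1 : Odd (q - 1) := Nat.Even.sub_odd h1 he odd_one
  have hcop : ∀ {x y : ℕ}, Odd x → (∀ p : ℕ, p.Prime → p ∣ x → p ∣ y → p ∣ 2) → Nat.Coprime x y := by
    intro x y hx h
    refine Nat.coprime_of_dvd' fun p hp h1 h2 => ?_
    rw [(Nat.prime_dvd_prime_iff_eq hp Nat.prime_two).1 (h p hp h1 h2)] at h1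
    exact absurd (even_iff_two_dvd.2 h1) (Nat.not_even_iff_odd.2 hx)
  have pm : ∀ x : ℕ, 1 ≤ x → Even x → Nat.Coprime (x + 1) (x - 1) := fun x hx hex =>
    hcop hex.add_one fun p _ h1 h2 => by
      simpa [show x + 1 - (x - 1) = 2 by omega] using Nat.dvd_sub h1 h2
  have ctwo : ∀ {x : ℕ} (k : ℕ), Odd x → Nat.Coprime (2 ^ k) x := fun k hx =>
    (Nat.coprime_two_left.2 hx).pow_left k
  have M : ∀ m, HasOrd (Cfsg.quadFormMinus m F a b) (q ^ (m + 1) + 1) := fun m => hasOrd_twisted hab m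
  have P : ∀ d, 0 < d → HasOrd (Cfsg.quadFormPlus d F) (q ^ d - 1) := fun d hd => hasOrd_split d hd
  have hsq : q ^ 2 - 1 = (q + 1) * (q - 1) := sq_sub_eq q
  have c2m : Nat.Coprime (q ^ 2 + 1) (q ^ 2 - 1) :=
    pm _ (Nat.one_le_pow _ _ h1) (he.pow_of_ne_zero (by omega))
  have c2a : Nat.Coprime (q ^ 2 + 1) (q + 1) := c2m.coprime_dvd_right (hsq ▸ dvd_mul_right _ _)
  have c2b : Nat.Coprime (q ^ 2 + 1) (q - 1) := c2m.coprime_dvd_right (hsq ▸ dvd_mul_left _ _)
  have c11 : Nat.Coprime (q + 1) (q - 1) := pm q h1 he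
  have c31 : Nat.Coprime (q ^ 3 - 1) (q + 1) := by
    refine hcop (hd 3 (by norm_num)) fun p _ h1' h2' => ?_
    have hp3 : p ∣ q ^ 3 + 1 := h2'.trans
      (by simpa using (show Odd 3 by decide).nat_add_dvd_pow_add_pow q 1)
    have := Nat.one_le_pow 3 q h1
    simpa [show q ^ 3 + 1 - (q ^ 3 - 1) = 2 by omega] using Nat.dvd_sub hp3 h1'
  have c13 : Nat.Coprime (q - 1) (q ^ 3 + 1) := by
    refine hcop hd1 fun p _ h1' h2' => ?_
    have hp3 : p ∣ q ^ 3 - 1 := h1'.trans (by simpa using Nat.sub_dvd_pow_sub_pow q 1 3)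
    have := Nat.one_le_pow 3 q h1
    simpa [show q ^ 3 + 1 - (q ^ 3 - 1) = 2 by omega] using Nat.dvd_sub h2' hp3
  have tw := hasOrd_swap (F := F)
  simp only [maxOrders, List.mem_cons, List.not_mem_nil, or_false] at hN
  rcases hN with rfl | rfl | rfl | rfl | rfl | rfl | rfl | rfl | rfl | rfl | rfl | rfl
  · simpa using M 3
  · have h := hasOrd_minus_add (P 2 two_pos) (M 1)
    rwa [lcm_of_coprime (n := q ^ 4 - 1) c2m.symm (by rw [four_sub_eq, mul_comm])] at h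
  · have h := hasOrd_minus_add (P 3 (by norm_num)) (M 0)
    rwa [zero_add, pow_one, lcm_of_coprime c31 rfl] at h
  · have h := hasOrd_minus_add (P 1 one_pos) (M 2)
    rwa [pow_one, lcm_of_coprime c13 (mul_comm _ _)] at h
  · have h := hasOrd_minus_add tw (M 2)
    rwa [lcm_of_coprime (Nat.coprime_two_left.2 (hs 3 (by norm_num))) rfl] at h
  · have h := hasOrd_minus_add (P 3 (by norm_num)) (hasOrd_refl (b := b) ha)
    rwa [lcm_of_coprime (Nat.coprime_two_right.2 (hd 3 (by norm_num))) (mul_comm _ _)] at h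
  · have h := hasOrd_minus_add (hasOrd_two_mul (F := F)) (M 1)
    rwa [lcm_of_coprime (n := 2 * ((q ^ 2 + 1) * (q + 1)))
      (Nat.Coprime.mul_left (Nat.coprime_two_left.2 (hs 2 two_pos)) c2a.symm) (by ring)] at h
  · have h := hasOrd_minus_add (hasOrd_plus_add (P 1 one_pos) tw) (M 1)
    rw [pow_one, lcm_of_coprime (Nat.coprime_two_right.2 hd1) rfl] at h
    rwa [lcm_of_coprime (n := 2 * ((q ^ 2 + 1) * (q - 1)))
      (Nat.Coprime.mul_left c2b.symm (Nat.coprime_two_left.2 (hs 2 two_pos))) (by ring)] at h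
  · have h := hasOrd_minus_add (hasOrd_four (F := F)) (M 1)
    rwa [lcm_of_coprime (n := 4 * (q ^ 2 + 1)) (show Nat.Coprime 4 (q ^ 2 + 1) from ctwo 2 (hs 2 two_pos)) rfl] at h
  · have h := hasOrd_minus_add (hasOrd_plus_add (P 1 one_pos) (hasOrd_four (F := F))) (M 0)
    rw [zero_add, pow_one, lcm_of_coprime (show Nat.Coprime (q - 1) 4 from (ctwo 2 hd1).symm) rfl] at h
    rwa [lcm_of_coprime (n := 4 * (q ^ 2 - 1))
      (Nat.Coprime.mul_left c11.symm (show Nat.Coprime 4 (q + 1) from ctwo 2 hs1)) (by rw [hsq]; ring)] at h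
  · have h := hasOrd_minus_add (hasOrd_eight_plus (F := F)) (M 0)
    rwa [zero_add, pow_one, lcm_of_coprime (n := 8 * (q + 1)) (show Nat.Coprime 8 (q + 1) from ctwo 3 hs1) rfl] at h
  · have h := hasOrd_minus_add (P 1 one_pos) (hasOrd_eight_minus (b := b) ha)
    rwa [pow_one, lcm_of_coprime (n := 8 * (q - 1)) (show Nat.Coprime (q - 1) 8 from (ctwo 3 hd1).symm) (mul_comm _ _)] at h

/-- The isometries of a minus form lie in the symplectic group of its polar form. -/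
theorem exists_embed {a b : F}
    (hab : ∀ z₁ z₂ : F, z₁ ^ 2 + a * z₁ * z₂ + b * z₂ ^ 2 = 0 → z₁ = 0 ∧ z₂ = 0) :
    ∃ φ : Cfsg.isometryGroup F (Cfsg.quadFormMinus 3 F a b) →* Matrix.symplecticGroup (Fin 4) F,
      Function.Injective φ := by
  classical
  set Q := CfsgLib.Classical.splitForm 3 (CfsgLib.Classical.binForm a b) with hQ
  let ρ := (LinearMap.GeneralLinearGroup.generalLinearEquiv F
      ((Fin 3 ⊕ Fin 3) ⊕ Fin 2 → F)).toMonoidHom.comp
    ((Units.map (Matrix.toLinAlgEquiv' (R := F) (n := (Fin 3 ⊕ Fin 3) ⊕ Fin 2)).toAlgHom.toRingHom.toMonoidHom).comp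
      (Cfsg.isometryGroup F (Cfsg.quadFormMinus 3 F a b)).subtype)
  have hρ : ∀ g v, ρ g v = (g.1 : Matrix ((Fin 3 ⊕ Fin 3) ⊕ Fin 2) ((Fin 3 ⊕ Fin 3) ⊕ Fin 2) F) *ᵥ v :=
    fun g v => rfl
  refine CfsgLib.KnownB.RestrictScalars.alt_embed ρ (fun g k he => Subtype.ext (Units.ext ?_))
    (polarBilin Q) (fun v => ?_)
    (CfsgLib.Classical.splitForm_nondeg (CfsgLib.Classical.binForm_nondeg hab) 3).1 (fun g x y => ?_)
    (by simp)
  · refine Matrix.ext_of_mulVec_single fun i => ?_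
    rw [← hρ, ← hρ, he]
  · rw [polarBilin_apply_apply, QuadraticMap.polar_self, two_smul, CharTwo.add_self_eq_zero]
  · simp only [polarBilin_apply_apply, polar, hρ, ← Matrix.mulVec_add, hQ,
      ← CfsgLib.Classical.quadFormMinus_eq]
    exact congrArg₂ (· - ·) (congrArg₂ (· - ·) (g.2 (x + y) (x + y)) (g.2 x x)) (g.2 y y)

theorem main {a b : F}
    (hab : ∀ z₁ z₂ : F, z₁ ^ 2 + a * z₁ * z₂ + b * z₂ ^ 2 = 0 → z₁ = 0 ∧ z₂ = 0) :
    Set.range (orderOf : Cfsg.PSp 4 F → ℕ) =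
      Set.range (orderOf : Cfsg.isometryGroup F (Cfsg.quadFormMinus 3 F a b) → ℕ) := by
  classical
  have ha : a ≠ 0 := fun h => CfsgLib.Classical.binAniso_disc hab (by
    rw [h]
    linear_combination (2 * b) * (CharTwo.two_eq_zero (R := F)))
  obtain ⟨φ, hφ⟩ := exists_embed hab
  have hcen : Subgroup.center (Matrix.symplecticGroup (Fin 4) F) = ⊥ := by
    refine Subgroup.card_eq_one.1 ?_
    rw [CfsgLib.Classical.card_center_sp, Nat.card_eq_fintype_card]
    exact Nat.coprime_two_left.2 (Nat.Even.sub_odd Fintype.card_pos even_card odd_one)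
  let π := QuotientGroup.mk' (Subgroup.center (Matrix.symplecticGroup (Fin 4) F))
  have hπ : Function.Injective π := by
    rw [← MonoidHom.ker_eq_bot_iff, QuotientGroup.ker_mk', hcen]
  refine Set.Subset.antisymm ?_ ?_
  · rintro _ ⟨x, rfl⟩
    obtain ⟨g, rfl⟩ := QuotientGroup.mk'_surjective _ x
    obtain ⟨N, hN, hd⟩ := orderOf_dvd_maxOrder g
    obtain ⟨k, hk⟩ := hasOrd_maxOrder hab ha hN
    refine CfsgLib.KnownB.ElementOrders.mem_range_orderOf_of_dvd (x := k) ?_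
    rw [hk, orderOf_injective π hπ]
    exact hd
  · rintro _ ⟨x, rfl⟩
    exact ⟨π (φ x), by rw [orderOf_injective π hπ, orderOf_injective φ hφ]⟩

end CfsgLib.CharsMore.SpectrumSp8
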