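import Cfsg.Agent.Lib.CharsMore.SpectrumSp8.Build
import Cfsg.Agent.Lib.KnownB.ElementOrders

/-!
Isometries of two power order in small dimension.
-/

set_option autoImplicit false

namespace CfsgLib.CharsMore.SpectrumSp8

open Matrix

universe u

variable {F : Type u} [Field F] [CharP F 2]

/-- A hyperbolic swap. -/
theorem hasOrd_swap : HasOrd (Cfsg.quadFormPlus 1 F) 2 := by
  refine hasOrd_of_end _ (LinearMap.funLeft F F (Sum.swap : Fin 1 ⊕ Fin 1 → Fin 1 ⊕ Fin 1)) two_pos ?_ fun v => ?_
  · refine orderOf_eq_prime (LinearMap.ext fun v => funext fun i => ?_) fun h => ?_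
    · rw [pow_two]; simp [LinearMap.funLeft]
    · have := congrFun (LinearMap.congr_fun h (Pi.single (.inl 0) 1)) (.inl 0)
      simp [LinearMap.funLeft] at this
  · simp [Cfsg.quadFormPlus, LinearMap.funLeft, mul_comm]

/-- A reflection of the anisotropic plane. -/
theorem hasOrd_refl {a b : F} (ha : a ≠ 0) : HasOrd (Cfsg.quadFormMinus 0 F a b) 2 := by
  let f : Module.End F ((Fin 0 ⊕ Fin 0) ⊕ Fin 2 → F) :=
    { toFun := fun v => Sum.elim (fun i => v (.inl i)) ![v (.inr 0) + a * v (.inr 1), v (.inr 1)]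
      map_add' := fun p r => by
        funext z; rcases z with i | i
        · simp
        · fin_cases i <;> simp; ring
      map_smul' := fun c p => by
        funext z; rcases z with i | i
        · simp
        · fin_cases i <;> simp; ring }
  refine hasOrd_of_end _ f two_pos (orderOf_eq_prime (LinearMap.ext fun v => ?_) fun h => ?_) fun v => ?_
  · rw [pow_two]
    funext z; rcases z with i | i
    · simp [f]
    · fin_cases i <;> simp [f, add_assoc, CharTwo.add_self_eq_zero]
  · have := congrFun (LinearMap.congr_fun h (Pi.single (.inr 1) 1)) (.inr 0)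
    simp [f, ha] at this
  · simp [f, Cfsg.quadFormMinus]
    linear_combination (a * v (.inr 0) * v (.inr 1) + a * a * v (.inr 1) * v (.inr 1)) * (CharTwo.two_eq_zero (R := F))

/-- An isometry of order four of two hyperbolic planes. -/
theorem hasOrd_four : HasOrd (Cfsg.quadFormPlus 2 F) 4 := by
  let f : Module.End F (Fin 2 ⊕ Fin 2 → F) :=
    LinearMap.funLeft F F (Sum.elim ![Sum.inl 1, Sum.inr 0] ![Sum.inr 1, Sum.inl 0])
  refine hasOrd_of_end _ f (by norm_num) ?_ fun v => ?_
  · refine orderOf_eq_prime_pow (p := 2) (n := 1) (fun h => ?_) (LinearMap.ext fun v => funext fun z => ?_)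
    · have := congrFun (LinearMap.congr_fun h (Pi.single (.inl 0) 1)) (.inl 0)
      simp [f, LinearMap.funLeft, pow_two] at this
    · simp only [f, show (2 : ℕ) ^ (1 + 1) = 2 + 2 from rfl, pow_add, pow_two]
      rcases z with i | i <;> fin_cases i <;> simp [LinearMap.funLeft]
  · simp [f, Cfsg.quadFormPlus, LinearMap.funLeft, Fin.sum_univ_two]
    ring

/-- An isometry of order eight of three hyperbolic planes. -/
theorem hasOrd_eight_plus : HasOrd (Cfsg.quadFormPlus 3 F) 8 := by
  let f : Module.End F (Fin 3 ⊕ Fin 3 → F) :=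
    { toFun := fun v => Sum.elim ![v (.inl 0) + v (.inl 1), v (.inl 2), v (.inr 1) + v (.inr 0)]
        ![v (.inr 0), v (.inr 2), v (.inl 1)]
      map_add' := fun p r => by
        funext z; rcases z with i | i <;> fin_cases i <;> simp <;> ring
      map_smul' := fun c p => by
        funext z; rcases z with i | i <;> fin_cases i <;> simp <;> ring }
  have h2 := CharTwo.two_eq_zero (R := F)
  have h4 : ∀ v, f (f (f (f v))) = Sum.elim
      ![v (.inl 0) + v (.inl 1) + v (.inl 2) + v (.inr 1) + v (.inr 2),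
        v (.inl 1) + v (.inr 0), v (.inl 2) + v (.inr 0)]
      ![v (.inr 0), v (.inr 1) + v (.inr 0), v (.inr 2) + v (.inr 0)] := by
    intro v
    have e : ∀ w : Fin 3 ⊕ Fin 3 → F, f (f w) = Sum.elim
        ![w (.inl 0) + w (.inl 1) + w (.inl 2), w (.inr 1) + w (.inr 0), w (.inr 2) + w (.inr 0)]
        ![w (.inr 0), w (.inl 1), w (.inl 2)] := fun w => by
      funext z; rcases z with i | i <;> fin_cases i <;> simp [f]
    rw [e v, e]
    funext z; rcases z with i | i <;> fin_cases i <;> simp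
    all_goals grind
  have hpow : ∀ v, (f ^ 4) v = f (f (f (f v))) := fun v => rfl
  refine hasOrd_of_end _ f (by norm_num) ?_ fun v => ?_
  · refine orderOf_eq_prime_pow (p := 2) (n := 2) (fun h => ?_) (LinearMap.ext fun v => funext fun z => ?_)
    · rw [show (2 : ℕ) ^ 2 = 4 from rfl] at h
      have := congrFun (LinearMap.congr_fun h (Pi.single (.inr 0) 1)) (.inl 1)
      rw [hpow, h4] at this
      simp at this
    · rw [show (2 : ℕ) ^ (2 + 1) = 4 + 4 from rfl, pow_add, Module.End.mul_apply, hpow, h4, hpow, h4]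
      rcases z with i | i <;> fin_cases i <;> simp
      all_goals grind
  · simp [f, Cfsg.quadFormPlus, Fin.sum_univ_three]
    linear_combination (v (.inl 1) * v (.inr 0)) * h2

/-- An isometry of order eight of two hyperbolic planes and an anisotropic one. -/
theorem hasOrd_eight_minus {a b : F} (ha : a ≠ 0) : HasOrd (Cfsg.quadFormMinus 2 F a b) 8 := by
  let f : Module.End F ((Fin 2 ⊕ Fin 2) ⊕ Fin 2 → F) :=
    { toFun := fun v => Sum.elim (Sum.elim
        ![v (.inl (.inl 1)), v (.inl (.inl 0)) + a * v (.inr 0) + b * v (.inl (.inr 0))]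
        ![v (.inl (.inr 1)), v (.inl (.inr 0))])
        ![v (.inr 0) + a * v (.inr 1) + a * v (.inl (.inr 0)), v (.inr 1) + v (.inl (.inr 0))]
      map_add' := fun p r => by
        funext z; rcases z with (i | i) | i <;> fin_cases i <;> simp <;> ring
      map_smul' := fun c p => by
        funext z; rcases z with (i | i) | i <;> fin_cases i <;> simp <;> ring }
  have h2 := CharTwo.two_eq_zero (R := F)
  have h4 : ∀ v, f (f (f (f v))) = Sum.elim (Sum.elim
      ![v (.inl (.inl 0)) + a * a * v (.inl (.inr 1)), v (.inl (.inl 1)) + a * a * v (.inl (.inr 0))]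
      ![v (.inl (.inr 0)), v (.inl (.inr 1))])
      ![v (.inr 0), v (.inr 1)] := by
    intro v
    have e : ∀ w : (Fin 2 ⊕ Fin 2) ⊕ Fin 2 → F, f (f w) = Sum.elim (Sum.elim
        ![w (.inl (.inl 0)) + b * w (.inl (.inr 0)) + a * w (.inr 0),
          w (.inl (.inl 1)) + a * a * w (.inl (.inr 0)) + b * w (.inl (.inr 1)) + a * w (.inr 0) + a * a * w (.inr 1)]
        ![w (.inl (.inr 0)), w (.inl (.inr 1))])
        ![w (.inr 0) + a * w (.inl (.inr 1)), w (.inr 1) + w (.inl (.inr 0)) + w (.inl (.inr 1))] := fun w => by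
      funext z; rcases z with (i | i) | i <;> fin_cases i <;> simp [f]
      all_goals grind
    rw [e v, e]
    funext z; rcases z with (i | i) | i <;> fin_cases i <;> simp
    all_goals grind
  have hpow : ∀ v, (f ^ 4) v = f (f (f (f v))) := fun v => rfl
  refine hasOrd_of_end _ f (by norm_num) ?_ fun v => ?_
  · refine orderOf_eq_prime_pow (p := 2) (n := 2) (fun h => ?_) (LinearMap.ext fun v => funext fun z => ?_)
    · rw [show (2 : ℕ) ^ 2 = 4 from rfl] at h
      have := congrFun (LinearMap.congr_fun h (Pi.single (.inl (.inr 0)) 1)) (.inl (.inl 1))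
      rw [hpow, h4] at this
      simp [ha] at this
    · rw [show (2 : ℕ) ^ (2 + 1) = 4 + 4 from rfl, pow_add, Module.End.mul_apply, hpow, h4, hpow, h4]
      rcases z with (i | i) | i <;> fin_cases i <;> simp
      all_goals grind
  · have hv : ∀ w, f w = Sum.elim (Sum.elim
        ![w (.inl (.inl 1)), w (.inl (.inl 0)) + a * w (.inr 0) + b * w (.inl (.inr 0))]
        ![w (.inl (.inr 1)), w (.inl (.inr 0))])
        ![w (.inr 0) + a * w (.inr 1) + a * w (.inl (.inr 0)), w (.inr 1) + w (.inl (.inr 0))] := fun w => rfl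
    simp only [Cfsg.quadFormMinus, hv, Fin.sum_univ_two, Sum.elim_inl, Sum.elim_inr, Matrix.cons_val_zero,
      Matrix.cons_val_one]
    linear_combination (a * v (.inr 0) * v (.inl (.inr 0)) + b * v (.inl (.inr 0)) * v (.inl (.inr 0))
      + a * v (.inr 0) * v (.inr 1) + a * a * v (.inr 1) * v (.inr 1) + 2 * a * a * v (.inr 1) * v (.inl (.inr 0))
      + a * a * v (.inl (.inr 0)) * v (.inl (.inr 0)) + a * v (.inr 0) * v (.inl (.inr 0))
      + b * v (.inl (.inr 0)) * v (.inr 1)) * h2

/-- An isometry of order `2 (q + 1)` of two hyperbolic planes. -/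
theorem hasOrd_two_mul [Fintype F] : HasOrd (Cfsg.quadFormPlus 2 F) (2 * (Fintype.card F + 1)) := by
  classical
  set q := Fintype.card F
  obtain ⟨A, hA, -⟩ := CfsgLib.KnownB.ElementOrders.exists_singer (F := F) 2 two_pos
  have hq2 : 2 ≤ q := Fintype.one_lt_card
  have hA' : orderOf A = q + 1 := by
    rw [hA, show q ^ 2 - 1 = (q + 1) * (q - 1) by simpa using Nat.sq_sub_sq q 1,
      Nat.mul_div_cancel _ (by omega)]
  let J : Matrix (Fin 2) (Fin 2) F := !![0, 1; 1, 0]
  have hJ : J * J = 1 := by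
    ext i j; fin_cases i <;> fin_cases j <;> simp [J]
  let lv : Matrix.SpecialLinearGroup (Fin 2) F →* Matrix (Fin 2 ⊕ Fin 2) (Fin 2 ⊕ Fin 2) F :=
    { toFun := fun B => fromBlocks B.1 0 0 ((B⁻¹ : Matrix.SpecialLinearGroup (Fin 2) F).1)ᵀ
      map_one' := by simp [fromBlocks_one]
      map_mul' := fun B C => by simp [fromBlocks_multiply, ← transpose_mul] }
  have hlv : Function.Injective lv := fun B C h => Subtype.ext (fromBlocks_inj.1 h).1
  let τ : Matrix (Fin 2 ⊕ Fin 2) (Fin 2 ⊕ Fin 2) F := fromBlocks 0 J J 0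
  have hτ : orderOf τ = 2 := by
    refine orderOf_eq_prime ?_ fun h => ?_
    · simp [τ, pow_two, fromBlocks_multiply, hJ, fromBlocks_one]
    · rw [← fromBlocks_one, fromBlocks_inj] at h
      exact zero_ne_one h.1
  have hcomm : Commute τ (lv A) := by
    have h1 : J * A.1 = ((A⁻¹ : Matrix.SpecialLinearGroup (Fin 2) F).1)ᵀ * J := by
      rw [Matrix.SpecialLinearGroup.coe_inv, Matrix.adjugate_fin_two]
      ext i j; fin_cases i <;> fin_cases j <;> simp [J, Matrix.vecMul, Matrix.mul_apply, Fin.sum_univ_two, CharTwo.neg_eq]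
    have h2 : J * ((A⁻¹ : Matrix.SpecialLinearGroup (Fin 2) F).1)ᵀ = A.1 * J := by
      rw [← mul_one (J * _), ← hJ, mul_assoc J, ← mul_assoc _ J J, ← h1, mul_assoc J A.1 J, ← mul_assoc J J, hJ, one_mul]
    show τ * lv A = lv A * τ
    simp only [τ, lv, MonoidHom.coe_mk, OneHom.coe_mk, fromBlocks_multiply, Matrix.zero_mul,
      Matrix.mul_zero, add_zero, zero_add]
    rw [h1, h2]
  have hord : orderOf (τ * lv A) = 2 * (q + 1) := by
    rw [hcomm.orderOf_mul_eq_mul_orderOf_of_coprime, hτ, orderOf_injective lv hlv, hA']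
    rw [hτ, orderOf_injective lv hlv, hA', Nat.coprime_two_left]
    exact even_card.add_one
  refine hasOrd_of_end _ (Matrix.toLinAlgEquiv' (τ * lv A)) (by omega) ?_ fun v => ?_
  · rw [← hord]
    exact orderOf_injective (Matrix.toLinAlgEquiv' (R := F) (n := Fin 2 ⊕ Fin 2)).toAlgHom.toRingHom.toMonoidHom
      (Matrix.toLinAlgEquiv' (R := F) (n := Fin 2 ⊕ Fin 2)).injective _
  · rw [Matrix.toLinAlgEquiv'_apply, ← Matrix.mulVec_mulVec]
    have e1 : ∀ w, Cfsg.quadFormPlus 2 F (τ *ᵥ w) = Cfsg.quadFormPlus 2 F w := fun w => by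
      simp [Cfsg.quadFormPlus, τ, J, fromBlocks_mulVec, Fin.sum_univ_two, Matrix.vecHead, Matrix.vecTail]
      ring
    rw [e1]
    simp only [lv, MonoidHom.coe_mk, OneHom.coe_mk, Cfsg.quadFormPlus, fromBlocks_mulVec,
      Sum.elim_inl, Sum.elim_inr, Matrix.zero_mulVec, add_zero, zero_add]
    change (A.1 *ᵥ (v ∘ Sum.inl)) ⬝ᵥ (((A⁻¹ : Matrix.SpecialLinearGroup (Fin 2) F).1)ᵀ *ᵥ (v ∘ Sum.inr)) =
      (v ∘ Sum.inl) ⬝ᵥ (v ∘ Sum.inr)
    rw [Matrix.mulVec_transpose, dotProduct_comm, ← Matrix.dotProduct_mulVec, Matrix.mulVec_mulVec,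
      ← Matrix.SpecialLinearGroup.coe_mul, inv_mul_cancel, Matrix.SpecialLinearGroup.coe_one, Matrix.one_mulVec,
      dotProduct_comm]

end CfsgLib.CharsMore.SpectrumSp8
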